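import Mathlib.CategoryTheory.Preadditive.Yoneda.Basic
import Mathlib.CategoryTheory.Preadditive.Yoneda.Limits
import Mathlib.CategoryTheory.Sites.Coherent.RegularSheaves
import Mathlib.CategoryTheory.Sites.Coherent.RegularTopology
import Mathlib.CategoryTheory.Sites.EpiMono
import Mathlib.CategoryTheory.Sites.Abelian
import Mathlib.CategoryTheory.Sites.Limits
import Mathlib.Algebra.Homology.ShortComplex.ExactFunctor
import Mathlib.Algebra.Category.Grp.Limits
import Mathlib.Algebra.Category.Grp.Colimits
import Mathlib.Algebra.Category.Grp.Abelian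
import Mathlib.Algebra.Category.Grp.FilteredColimits
import Mathlib.CategoryTheory.Abelian.Basic
import Mathlib.CategoryTheory.EffectiveEpi.Preserves

/-!
# A small abelian category inside abelian sheaves for the regular topology
-/

universe u

open CategoryTheory CategoryTheory.Limits Opposite

namespace Groth.Agent.CohDerLib.RegPoints

variable (A : Type u) [SmallCategory A] [Abelian A] [Preregular A]

lemma isSheaf_preadditiveYoneda (X : A) :
    Presheaf.IsSheaf (regularTopology A) (preadditiveYoneda.obj X : Aᵒᵖ ⥤ AddCommGrpCat.{u}) :=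
  Presheaf.isSheaf_of_isSheaf_comp (regularTopology A) _ (forget AddCommGrpCat.{u})
    ((isSheaf_iff_isSheaf_of_type _ _).2
      (Presieve.isSheaf_iso _ ((Iso.refl (yoneda.obj X)) :
        yoneda.obj X ≅ preadditiveYoneda.obj X ⋙ forget AddCommGrpCat.{u})
        (regularTopology.isSheaf_yoneda_obj X)))

/-- the embedding -/
noncomputable def toSheaf : A ⥤ Sheaf (regularTopology A) AddCommGrpCat.{u} where
  obj X := ⟨preadditiveYoneda.obj X, isSheaf_preadditiveYoneda A X⟩
  map f := ⟨preadditiveYoneda.map f⟩

/-- the embedding is the sheafified Yoneda -/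
noncomputable def toSheafIso :
    preadditiveYoneda ⋙ presheafToSheaf (regularTopology A) AddCommGrpCat.{u} ≅ toSheaf A :=
  NatIso.ofComponents
    (fun X => @asIso _ _ _ _ ((sheafificationAdjunction (regularTopology A) AddCommGrpCat.{u}).counit.app
      ((toSheaf A).obj X)) (isIso_sheafificationAdjunction_counit _))
    (fun f => (sheafificationAdjunction (regularTopology A) AddCommGrpCat.{u}).counit.naturality
      ((toSheaf A).map f))

lemma full : (toSheaf A).Full :=
  ⟨fun {X Y} φ => ⟨preadditiveYoneda.preimage φ.hom,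
    ObjectProperty.hom_ext _ (preadditiveYoneda.map_preimage φ.hom)⟩⟩

lemma faithful : (toSheaf A).Faithful :=
  ⟨fun {X Y} f g h => preadditiveYoneda.map_injective (congrArg (fun φ => φ.hom) h)⟩

lemma preservesFiniteLimits : PreservesFiniteLimits
    (preadditiveYoneda ⋙ presheafToSheaf (regularTopology A) AddCommGrpCat.{u}) :=
  have : PreservesFiniteLimits (preadditiveYoneda : A ⥤ Aᵒᵖ ⥤ AddCommGrpCat.{u}) :=
    ⟨fun J _ _ => preservesLimitsOfShape_of_evaluation _ _ fun Y =>
      inferInstanceAs (PreservesLimitsOfShape J (preadditiveCoyoneda.obj Y))⟩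
  comp_preservesFiniteLimits _ _

lemma epi_map {X Y : A} (f : X ⟶ Y) [Epi f] : Epi ((toSheaf A).map f) := by
  suffices Sheaf.IsLocallySurjective ((toSheaf A).map f) from Sheaf.epi_of_isLocallySurjective _
  refine ⟨fun {U} s => regularTopology.mem_sieves_of_hasEffectiveEpi _ ?_⟩
  let g : unop (op U) ⟶ Y := s
  have : EffectiveEpi (pullback.snd f g) := by
    rw [← isRegularEpi_iff_effectiveEpi]
    exact IsRegularEpiCategory.regularEpiOfEpi _
  exact ⟨pullback f g, pullback.snd f g, this, pullback.fst f g, pullback.condition⟩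

theorem exact :
    PreservesFiniteColimits
      (preadditiveYoneda ⋙ presheafToSheaf (regularTopology A) AddCommGrpCat.{u}) := by
  have := preservesFiniteLimits A
  let G := preadditiveYoneda ⋙ presheafToSheaf (regularTopology A) AddCommGrpCat.{u}
  have : G.Additive := Functor.additive_of_preserves_binary_products G
  rw [Functor.preservesFiniteColimits_iff_forall_exact_map_and_epi]
  intro S hS
  have hl : ∀ (S : ShortComplex A), S.ShortExact → (S.map G).Exact ∧ Mono (G.map S.f) :=
    ((Functor.preservesFiniteLimits_tfae G).out 3 0).1 (preservesFiniteLimits A)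
  refine ⟨(hl S hS).1, ?_⟩
  have := hS.epi_g
  have := epi_map A S.g
  exact (MorphismProperty.epimorphisms _).arrow_mk_iso_iff
    (((Functor.mapArrowFunctor _ _).mapIso (toSheafIso A)).app (Arrow.mk S.g)) |>.2 this

end Groth.Agent.CohDerLib.RegPoints
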