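import Mathlib.CategoryTheory.Abelian.Indization
import Mathlib.CategoryTheory.Abelian.GrothendieckAxioms.Indization
import Mathlib.CategoryTheory.Abelian.GrothendieckCategory.EnoughInjectives
import Mathlib.CategoryTheory.Abelian.Opposite
import Mathlib.CategoryTheory.Limits.Preserves.Shapes.Kernels
import Mathlib.CategoryTheory.Abelian.Basic
import Mathlib.CategoryTheory.Sites.Coherent.RegularTopology
import Mathlib.CategoryTheory.Sites.Point.Conservative
import Mathlib.CategoryTheory.EffectiveEpi.Preserves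

/-!
# The regular topology of a small abelian category has enough points
-/

universe u

open CategoryTheory CategoryTheory.Limits Opposite
open scoped ZeroObject

namespace Groth.Agent.CohDerLib.RegPoints

variable {A : Type u} [SmallCategory A] [Abelian A]

/-- the exact embedding of `Aᵒᵖ` in a Grothendieck abelian category -/
noncomputable abbrev emb : Aᵒᵖ ⥤ Ind Aᵒᵖ := Ind.yoneda

instance : (emb (A := A)).Additive := Functor.additive_of_preserves_binary_products _

variable (A) in
/-- the functor of maps into an object -/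
noncomputable def fib (I : Ind Aᵒᵖ) : A ⥤ Type u where
  obj Y := (emb.obj (op Y) ⟶ I)
  map g := ↾fun φ => emb.map g.op ≫ φ
  map_id Y := by ext φ; simp
  map_comp f g := by ext φ; simp

lemma isCofiltered_elements (I : Ind Aᵒᵖ) : IsCofiltered (fib A I).Elements := by
  have hK : ∀ {Y Z : A} (g : Y ⟶ Z) (φ : emb.obj (op Y) ⟶ I), emb.map g.op ≫ φ = 0 →
      ∃ χ : emb.obj (op (kernel g)) ⟶ I, emb.map (kernel.ι g).op ≫ χ = φ := fun {Y Z} g φ hφ => by
    have hc : IsColimit (CokernelCofork.ofπ (kernel.ι g).op (f := g.op)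
        (by rw [← op_comp, kernel.condition, op_zero])) :=
      KernelFork.IsLimit.ofιOp (kernel.ι g) (kernel.condition g) (kernelIsKernel g)
    exact ⟨_, (CokernelCofork.IsColimit.desc' (isColimitCoforkMapOfIsColimit' emb _ hc) φ hφ).2⟩
  refine
    { cone_objs := ?_
      cone_maps := ?_
      nonempty := ⟨⟨0, (0 : emb.obj (op (0 : A)) ⟶ I)⟩⟩ }
  · rintro ⟨Y, φ⟩ ⟨Z, ψ⟩
    refine ⟨⟨Y ⊞ Z, emb.map (biprod.inl : Y ⟶ Y ⊞ Z).op ≫ φ + emb.map (biprod.inr : Z ⟶ Y ⊞ Z).op ≫ ψ⟩,
      ⟨biprod.fst, ?_⟩, ⟨biprod.snd, ?_⟩, trivial⟩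
    · show emb.map (biprod.fst : Y ⊞ Z ⟶ Y).op ≫ _ = φ
      simp [← Functor.map_comp_assoc, ← op_comp]
    · show emb.map (biprod.snd : Y ⊞ Z ⟶ Z).op ≫ _ = ψ
      simp [← Functor.map_comp_assoc, ← op_comp]
  · rintro ⟨Y, φ⟩ ⟨Z, ψ⟩ ⟨g, hg⟩ ⟨g', hg'⟩
    change emb.map g.op ≫ φ = ψ at hg
    change emb.map g'.op ≫ φ = ψ at hg'
    obtain ⟨χ, hχ⟩ := hK (g - g') φ (by
      rw [op_sub, Functor.map_sub, Preadditive.sub_comp, hg, hg', sub_self])
    refine ⟨⟨kernel (g - g'), χ⟩, ⟨kernel.ι (g - g'), hχ⟩, Subtype.ext ?_⟩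
    have h := kernel.condition (g - g')
    rw [Preadditive.comp_sub, sub_eq_zero] at h
    exact h

variable [Preregular A]

/-- the point attached to an injective object -/
noncomputable def point (I : Ind Aᵒᵖ) [Injective I] :
    GrothendieckTopology.Point.{u} (regularTopology A) where
  fiber := fib A I
  isCofiltered := isCofiltered_elements I
  initiallySmall := initiallySmall_of_essentiallySmall _
  jointly_surjective R h φ := by
    obtain ⟨Y, g, hg, hR⟩ := (regularTopology.mem_sieves_iff_hasEffectiveEpi R).1 h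
    refine ⟨Y, g, hR, Injective.factorThru φ (emb.map g.op), ?_⟩
    change emb.map g.op ≫ Injective.factorThru φ (emb.map g.op) = φ
    exact Injective.comp_factorThru φ (emb.map g.op)

/-- the family -/
noncomputable def points (X : A) : GrothendieckTopology.Point.{u} (regularTopology A) :=
  point (Injective.under (emb.obj (op X)))

theorem hasEnoughPoints : GrothendieckTopology.HasEnoughPoints.{u} (regularTopology A) := by
  refine ⟨⟨ObjectProperty.ofObj (points (A := A)), inferInstance,
    ObjectProperty.IsConservativeFamilyOfPoints.mk' fun X S hS => ?_⟩⟩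
  let ι := Injective.ι (emb.obj (op X))
  obtain ⟨Z, g, hSg, χ, hχ⟩ := hS ⟨points X, ObjectProperty.ofObj.mk X⟩ ι
  change emb.map g.op ≫ χ = ι at hχ
  refine regularTopology.mem_sieves_of_hasEffectiveEpi S ⟨Z, g, ?_, hSg⟩
  have : Mono (emb.map g.op) := mono_of_mono_fac hχ
  have : Mono g.op := emb.mono_of_mono_map this
  have : Epi g := unop_epi_of_mono g.op
  rw [← isRegularEpi_iff_effectiveEpi]
  exact IsRegularEpiCategory.regularEpiOfEpi _

end Groth.Agent.CohDerLib.RegPoints
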